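import Groth.Agent.Lib.CBC10.Rows0
import Groth.Agent.Lib.AmpleFin18.ProjFree
import Groth.Agent.Lib.PushUnit3.Basic
import Groth.Agent.Lib.TensorMod.Invertible
import Groth.Agent.Lib.DPerf.RelAmp
import Groth.Agent.Lib.KFlat.LpullPC
import Groth.Prelude.Def_ega3

/-!
# Where the functions on the fibre are the residue field, `O_S ⟶ f_* O_X` is an isomorphism
-/

set_option autoImplicit false
set_option linter.style.haveILetI false
set_option maxHeartbeats 1000000
set_option backward.isDefEq.respectTransparency false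

universe u

open CategoryTheory CategoryTheory.Limits AlgebraicGeometry TopologicalSpace Opposite Groth.Agent.ModLimH13

noncomputable section

namespace Groth.Agent.LiftFib11

open Groth.Agent.M1 Groth.Agent.P1Split

variable {X S : Scheme.{u}}

/-- A bijection from a free module of rank `n` to the ring determines `n` and a unit coordinate. -/
theorem isUnit_coord {K T : Type u} [CommRing K] [Nontrivial K] [AddCommGroup T] [Module K T] {n : ℕ}
    (b : Fin n → T) (hb : Function.Bijective fun c : Fin n → K => ∑ i, c i • b i) (u : T)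
    (hu : Function.Bijective fun c : K => c • u) (a : Fin n → K) (ha : ∑ i, a i • b i = u) :
    ∃ h : n = 1, IsUnit (a (Fin.cast h.symm 0)) := by
  let L₁ : (Fin n → K) ≃ₗ[K] T := LinearEquiv.ofBijective
    { toFun := fun c => ∑ i, c i • b i
      map_add' := fun c d => by simp only [Pi.add_apply, add_smul, Finset.sum_add_distrib]
      map_smul' := fun r c => by simp only [Pi.smul_apply, smul_eq_mul, mul_smul, Finset.smul_sum, RingHom.id_apply] }
    hb
  let L₂ : K ≃ₗ[K] T := LinearEquiv.ofBijective (LinearMap.toSpanSingleton K T u) hu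
  have hn : n = 1 := by
    simpa using (L₁.trans L₂.symm).finrank_eq
  subst hn
  refine ⟨rfl, ?_⟩
  obtain ⟨c, hc⟩ := hu.2 (b 0)
  refine IsUnit.of_mul_eq_one c (hu.1 ?_)
  show (a 0 * c) • u = (1 : K) • u
  rw [mul_smul, show c • u = b 0 from hc, one_smul]
  simpa using ha

/-- If the functions on the fibre at `s` are `κ(s)`, then `O_S ⟶ f_* O_X` is an isomorphism near `s`. -/
theorem exists_nhd_isIso_app (f : X ⟶ S) [IsProper f] [Flat f] [IsLocallyNoetherian S] (s : S)
    (hsec : Function.Bijective (f.fiberToSpecResidueField s).appTop) :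
    ∃ U : S.Opens, s ∈ U ∧ ∀ V : S.Opens, V ≤ U → IsIso (f.app V) := by
  haveI : HasInjectiveResolutions X.Modules := CohFound.hasInjectiveResolutions_modules X
  let O := Coh.structureModule X
  have hO : PicF.IsInvertible O := fun x => ⟨⊤, trivial, ⟨Scheme.Modules.restrictUnitIso _⟩⟩
  haveI hOq : Coh.IsQCoh O := M1.isQCoh_structureModule X
  have hfp : CohB1.IsFP O := M1.isFP_of_isFinLocFree (M2.isFinLocFree_of_isInvertible hO)
  have hfl : FlatMod.IsFlatOver f O :=
    DPerf.isFlatOver_of_isFlat f (KFlat.Sch.isFlat_of_isFinLocFree (M2.isFinLocFree_of_isInvertible hO))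
  have h : IsPullback (f.fiberι s) (f.fiberToSpecResidueField s) f (S.fromSpecResidueField s) :=
    IsPullback.of_hasPullback _ _
  let g := S.fromSpecResidueField s
  let f' := f.fiberToSpecResidueField s
  let ι := f.fiberι s
  let pF := (Scheme.Modules.pushforward f).obj O
  let T := (Scheme.Modules.pushforward f').obj ((Scheme.Modules.pullback ι).obj O)
  let β := CohBC.bc0 f g f' ι h.w O
  haveI : Subsingleton (Spec (S.residueField s)) := inferInstanceAs (Subsingleton (PrimeSpectrum (S.residueField s)))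
  have eTop : ∀ {V : S.Opens}, s ∈ V → (⊤ : (Spec (S.residueField s)).Opens) ≤ g ⁻¹ᵁ V := fun {V} hV z _ => by
    show g z ∈ V
    rw [S.fromSpecResidueField_apply]
    exact hV
  let u : Γ(T, ⊤) := res' ι O (le_refl (ι ⁻¹ᵁ ⊤) : f' ⁻¹ᵁ ⊤ ≤ ι ⁻¹ᵁ ⊤) (one ⊤)
  have hu : Function.Bijective fun c : Γ(Spec (S.residueField s), ⊤) => c • u := by
    have hgen := (isGen_one (⊤ : X.Opens)).pullback ι
    exact (hgen (f' ⁻¹ᵁ ⊤) (le_refl _)).comp hsec
  have hone : ∀ {V : S.Opens} (hV : s ∈ V),
      β.app ⊤ (res' g pF (eTop hV) (show Γ(pF, V) from one (f ⁻¹ᵁ V))) = u := by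
    intro V hV
    rw [CBC10.bc0_res', ← mres_one (X := X) (le_top : f ⁻¹ᵁ V ≤ ⊤)]
    exact res'_mres ι O le_top _ (one ⊤)
  obtain ⟨V₀, -, M₀, hsV₀⟩ := CBC10.exists_model_at f O hfp hfl (U := ⊤) (s := s) trivial
  have hepi : Epi β := by
    rw [CBC10.epi_iff_surjective_top]
    intro z
    obtain ⟨c, rfl⟩ := hu.2 z
    exact ⟨c • res' g pF (eTop hsV₀) (show Γ(pF, V₀) from one (f ⁻¹ᵁ V₀)),
      (Scheme.Modules.Hom.app_smul β c _).trans (congrArg (c • ·) (hone hsV₀))⟩
  obtain ⟨V', -, M', hsV', hflat⟩ := CBC10.exists_flat_model M₀ hsV₀ [-1] (by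
    simpa using (M₀.epi_fibre0_iff hsV₀).1 hepi)
  haveI hβ : IsIso β := CBC10.isIso_bc0 h O fun z => ⟨V', M', eTop hsV' (Opens.mem_top z), hflat _ (by simp)⟩
  have hlf : FlatMod.IsFinLocFree (pF.restrict V'.ι) :=
    CBC10.isFinLocFree_push_restrict V' fun t ht => ⟨V', M', ht, le_rfl, hflat _ (by simp)⟩
  obtain ⟨n, D₀, e₀, hsD₀, he₀⟩ := PushUnit3.exists_isBas_nhd' hlf ⟨s, hsV'⟩
  let D := V'.ι ''ᵁ D₀
  let E : Fin n → Γ(pF, D) := fun i => e₀ i
  have he : IsBas pF D E := isBas_of_restrict V'.ι pF he₀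
  have hsD : s ∈ D := ⟨⟨s, hsV'⟩, hsD₀, rfl⟩
  obtain ⟨a, ha⟩ := (he D le_rfl).2 (show Γ(pF, D) from one (f ⁻¹ᵁ D))
  simp only [mres_id] at ha
  let K := Γ(Spec (S.residueField s), ⊤)
  haveI : Nontrivial K := (Scheme.ΓSpecIso (S.residueField s)).inv.hom.injective.nontrivial
  let ā : Fin n → K := fun i => g.appLE D ⊤ (eTop hsD) (a i)
  let b : Fin n → Γ(T, ⊤) := fun i => β.app ⊤ (res' g pF (eTop hsD) (E i))
  have hb : Function.Bijective fun c : Fin n → K => ∑ i, c i • b i := by
    have h1 := AmpleFin18.isBas_pullback g he ⊤ (eTop hsD)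
    have h2 := ConcreteCategory.bijective_of_isIso (β.app ⊤)
    have heq : (fun c : Fin n → K => ∑ i, c i • b i) =
        β.app ⊤ ∘ fun c : Fin n → K => ∑ i, c i • M1.mres _ (eTop hsD) (M2.pullSec g pF (E i)) := by
      funext c
      simp only [Function.comp_apply, map_sum]
      exact Finset.sum_congr rfl fun i _ => (Scheme.Modules.Hom.app_smul β _ _).symm
    rw [heq]
    exact h2.comp h1
  have hab : ∑ i, ā i • b i = u := by
    rw [← hone hsD, ← ha]
    have hsum : res' g pF (eTop hsD) (∑ i, a i • E i) = ∑ i, ā i • res' g pF (eTop hsD) (E i) := by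
      let φ : Γ(pF, D) →+ Γ((Scheme.Modules.pullback g).obj pF, ⊤) :=
        AddMonoidHom.mk' (res' g pF (eTop hsD)) (res'_add g pF (eTop hsD))
      show φ _ = _
      rw [map_sum]
      exact Finset.sum_congr rfl fun i _ => res'_smul g pF (eTop hsD) (a i) (E i)
    rw [hsum, map_sum]
    exact Finset.sum_congr rfl fun i _ => (Scheme.Modules.Hom.app_smul β _ _).symm
  obtain ⟨hn, hunit⟩ := isUnit_coord b hb u hu ā hab
  subst hn
  have hunit' : IsUnit (S.presheaf.germ D s hsD (a 0)) := by
    let z : Spec (S.residueField s) := IsLocalRing.closedPoint (S.residueField s)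
    have hz : g z = s := S.fromSpecResidueField_apply s z
    have hzD : g z ∈ D := hz.symm ▸ hsD
    have h3 : IsUnit (S.presheaf.germ D (g z) hzD (a 0)) := by
      refine isUnit_of_map_unit (g.stalkMap z).hom _ ?_
      rw [Scheme.Hom.germ_stalkMap_apply g D z hzD (a 0)]
      have h4 := hunit.map ((Spec (S.residueField s)).presheaf.germ ⊤ z trivial).hom
      simp only [ā, Scheme.Hom.appLE, CommRingCat.comp_apply] at h4
      rwa [TopCat.Presheaf.germ_res_apply] at h4
    rw [← Scheme.mem_basicOpen] at h3 ⊢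
    rwa [hz] at h3
  refine ⟨S.basicOpen (a 0), by rwa [Scheme.mem_basicOpen], fun V hV => ?_⟩
  have hVD : V ≤ D := hV.trans (S.basicOpen_le _)
  have ha0 : IsUnit (ores hVD (a 0)) := by
    have h1 := (RingedSpace.isUnit_res_basicOpen S.toRingedSpace (a 0)).map (ores hV).hom
    change IsUnit (ores hV (ores (S.basicOpen_le (a 0)) (a 0))) at h1
    rwa [ores_ores] at h1
  rw [ConcreteCategory.isIso_iff_bijective]
  have hkey : ((fun c : Fin 1 → Γ(S, V) => ∑ i, c i • M1.mres pF hVD (E i)) ∘
      fun r : Γ(S, V) => fun i : Fin 1 => r * ores hVD (a i)) = fun r => (f.app V r : Γ(X, f ⁻¹ᵁ V)) := by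
    funext r
    have h1 : (∑ i, ores hVD (a i) • M1.mres pF hVD (E i)) = (show Γ(pF, V) from one (f ⁻¹ᵁ V)) := by
      rw [← mres_sum_smul, ha]
      exact mres_one (X := X) (f.preimage_mono hVD)
    simp only [Function.comp_apply, mul_smul, ← Finset.smul_sum, h1]
    exact mul_one (f.app V r)
  have hcomp : Function.Bijective ((fun c : Fin 1 → Γ(S, V) => ∑ i, c i • M1.mres pF hVD (E i)) ∘
      fun r : Γ(S, V) => fun i : Fin 1 => r * ores hVD (a i)) := by
    refine (he V hVD).comp ?_
    have : (fun r : Γ(S, V) => fun i : Fin 1 => r * ores hVD (a i)) =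
        (Equiv.funUnique (Fin 1) Γ(S, V)).symm ∘ fun r => r * ores hVD (a 0) := by
      funext r i
      rw [Subsingleton.elim i 0]
      rfl
    rw [this]
    exact (Equiv.bijective _).comp ha0.unit.mulRight_bijective
  rw [hkey] at hcomp
  exact hcomp

end Groth.Agent.LiftFib11
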