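import Groth.Agent.Lib.P1Split17.Basis
import Groth.Agent.Lib.ModM1.Exact
import Groth.Agent.Lib.WeakAss18.Iso
import Groth.Agent.Lib.CI2.LocLift
import Mathlib.LinearAlgebra.Matrix.NonsingularInverse
import Mathlib.LinearAlgebra.Matrix.ToLin

/-!
# Matrices of maps of free modules on stalks and on closed fibres
-/

set_option autoImplicit false
set_option linter.style.haveILetI false
set_option backward.isDefEq.respectTransparency false

universe u

open CategoryTheory CategoryTheory.Limits AlgebraicGeometry TopologicalSpace TensorProduct IsLocalRing Matrix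

noncomputable section

namespace Groth.Agent.LiftFib11

open Groth.Agent.M1 Groth.Agent.P1Split

section Ring

variable {R R' : Type u} [CommRing R] [CommRing R'] {n m : ℕ}

theorem map_vecMul (φ : R →+* R') (A : Matrix (Fin n) (Fin m) R) (c : Fin n → R) :
    (φ ∘ c) ᵥ* A.map φ = φ ∘ (c ᵥ* A) :=
  funext fun j => (RingHom.map_vecMul φ A c j).symm

/-- Surjectivity lifts along a surjection onto a nonzero ring, out of a local ring. -/
theorem surjective_vecMul_of_map [IsLocalRing R] [Nontrivial R'] (φ : R →+* R') (hφ : Function.Surjective φ)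
    (A : Matrix (Fin n) (Fin m) R) (h : Function.Surjective (A.map φ).vecMul) :
    Function.Surjective A.vecMul := by
  have hker : RingHom.ker φ ≤ maximalIdeal R :=
    IsLocalRing.le_maximalIdeal (RingHom.ker_ne_top φ)
  let L := A.vecMulLinear
  have hle : (⊤ : Submodule R (Fin m → R)) ≤ LinearMap.range L ⊔ RingHom.ker φ • (⊤ : Submodule R (Fin m → R)) := by
    intro v _
    obtain ⟨c', hc'⟩ := h (φ ∘ v)
    choose c hc using fun i => hφ (c' i)
    have hv : ∀ j, v j - (c ᵥ* A) j ∈ RingHom.ker φ := fun j => by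
      have h1 := congrFun (map_vecMul φ A c) j
      rw [show φ ∘ c = c' from funext hc] at h1
      rw [RingHom.mem_ker, map_sub, sub_eq_zero]
      exact (congrFun hc' j).symm.trans h1
    rw [show v = c ᵥ* A + ∑ j, (v - c ᵥ* A) j • (Pi.single j (1 : R) : Fin m → R) from by
      rw [← pi_eq_sum_univ' (v - c ᵥ* A), add_sub_cancel]]
    exact Submodule.add_mem_sup ⟨c, rfl⟩
      (Submodule.sum_mem _ fun j _ => Submodule.smul_mem_smul (hv j) trivial)
  have htop : ⊤ ≤ LinearMap.range L := by
    refine Submodule.le_of_le_smul_of_le_jacobson_bot (I := RingHom.ker φ) ?_ ?_ hle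
    · exact Module.Finite.fg_top
    · rw [IsLocalRing.jacobson_eq_maximalIdeal ⊥ bot_ne_top]
      exact hker
  exact fun v => htop (Submodule.mem_top (x := v))

/-- A square matrix invertible modulo a proper ideal of a local ring is invertible. -/
theorem isUnit_det_of_bijective_map [IsLocalRing R] [Nontrivial R'] (φ : R →+* R') (hφ : Function.Surjective φ)
    (A : Matrix (Fin n) (Fin n) R) (h : Function.Surjective (A.map φ).vecMul) : IsUnit A.det :=
  (Matrix.isUnit_iff_isUnit_det A).1 (Matrix.vecMul_surjective_iff_isUnit.1 (surjective_vecMul_of_map φ hφ A h))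

theorem bijective_vecMul_of_isUnit_det (A : Matrix (Fin n) (Fin n) R) (h : IsUnit A.det) :
    Function.Bijective A.vecMul := by
  refine ⟨fun c c' hc => ?_, Matrix.vecMul_surjective_iff_isUnit.2 ((Matrix.isUnit_iff_isUnit_det A).2 h)⟩
  have h' := congrArg (fun v => v ᵥ* A⁻¹) hc
  simpa only [Matrix.vecMul_vecMul, Matrix.mul_nonsing_inv A h, Matrix.vecMul_one] using h'

theorem card_eq_of_bijective [Nontrivial R] (A : Matrix (Fin n) (Fin m) R) (h : Function.Bijective A.vecMul) :
    n = m := by
  have := LinearEquiv.finrank_eq (R := R) (LinearEquiv.ofBijective A.vecMulLinear h)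
  simpa using this

/-- Injectivity lifts from the closed fibre of a flat local algebra. -/
theorem injective_vecMul_of_map (A₀ : Type u) [CommRing A₀] [IsNoetherianRing A₀] [IsLocalRing A₀] [Algebra A₀ R]
    [IsNoetherianRing R] [IsLocalRing R] [IsLocalHom (algebraMap A₀ R)] [Module.Flat A₀ R]
    (φ : R →+* R') (hker : ∀ r, φ r = 0 ↔ r ∈ (maximalIdeal A₀).map (algebraMap A₀ R))
    (A : Matrix (Fin n) (Fin m) R) (h : Function.Injective (A.map φ).vecMul) :
    Function.Injective A.vecMul := by
  let L := A.vecMulLinear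
  haveI : Module.Flat A₀ (Fin m → R) := Module.Flat.trans A₀ R (Fin m → R)
  refine (CI2.flat_step_local (A := A₀) L (LinearMap.range L).mkQ (LinearMap.exact_map_mkQ_range L)
    (Submodule.mkQ_surjective _) ?_).2.1
  rw [injective_iff_map_eq_zero]
  intro z hz
  obtain ⟨v, rfl⟩ : ∃ v, (1 : A₀ ⧸ maximalIdeal A₀) ⊗ₜ[A₀] v = z :=
    TensorProduct.mk_surjective A₀ _ _ Ideal.Quotient.mk_surjective z
  rw [LinearMap.lTensor_tmul, CI2.one_tmul_eq_zero] at hz
  rw [CI2.one_tmul_eq_zero]
  have hmem : ∀ {k : ℕ} (w : Fin k → R), w ∈ maximalIdeal A₀ • (⊤ : Submodule A₀ (Fin k → R)) ↔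
      ∀ i, φ (w i) = 0 := by
    intro k w
    have e : ((maximalIdeal A₀).map (algebraMap A₀ R) • (⊤ : Submodule R (Fin k → R))).restrictScalars A₀ =
        maximalIdeal A₀ • (⊤ : Submodule A₀ (Fin k → R)) := by
      rw [Ideal.smul_restrictScalars, Submodule.restrictScalars_top]
    rw [← e, Submodule.restrictScalars_mem]
    refine ⟨fun hw i => (hker _).2 ?_, fun hw => ?_⟩
    · have := Submodule.mem_map_of_mem (f := LinearMap.proj i) hw
      rw [Submodule.map_smul''] at this
      exact (Submodule.smul_le.2 fun r hr x _ => Ideal.mul_mem_right x _ hr) this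
    · rw [pi_eq_sum_univ' w]
      exact Submodule.sum_mem _ fun i _ => Submodule.smul_mem_smul ((hker _).1 (hw i)) trivial
  rw [hmem] at hz ⊢
  have h1 : (φ ∘ v) ᵥ* A.map φ = 0 ᵥ* A.map φ := by
    rw [map_vecMul, Matrix.zero_vecMul]
    exact funext hz
  exact fun i => congrFun (h h1) i

end Ring

section Stalk

variable {X : Scheme.{u}} {M N : X.Modules} {n m : ℕ} {D : X.Opens} {e : Fin n → Γ(M, D)} {g : Fin m → Γ(N, D)}

/-- The matrix of a map in bases computes the map of stalks. -/
theorem stalk_coord (φ : M ⟶ N) (he : IsBas M D e) (hg : IsBas N D g) (a : Matrix (Fin n) (Fin m) Γ(X, D))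
    (ha : ∀ i, φ.app D (e i) = ∑ j, a i j • g j) {x : X} (hx : x ∈ D) :
    (Function.Injective ((stalkAb x).map φ) ↔ Function.Injective (a.map (X.presheaf.germ D x hx)).vecMul) ∧
      (Function.Surjective ((stalkAb x).map φ) ↔ Function.Surjective (a.map (X.presheaf.germ D x hx)).vecMul) := by
  let P := fun c : Fin n → X.presheaf.stalk x => ∑ i, c i • (M.presheaf.germ D x hx (e i) : M.presheaf.stalk x)
  let Q := fun c : Fin m → X.presheaf.stalk x => ∑ j, c j • (N.presheaf.germ D x hx (g j) : N.presheaf.stalk x)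
  have hsq : ⇑((stalkAb x).map φ) ∘ P = Q ∘ (a.map (X.presheaf.germ D x hx)).vecMul := by
    funext c
    simp only [Function.comp_apply, P, Q, map_sum, Matrix.vecMul, dotProduct, Matrix.map_apply, Finset.sum_smul,
      mul_smul]
    rw [Finset.sum_comm]
    refine Finset.sum_congr rfl fun i _ => ?_
    rw [WA.stalkAb_map_smul, germ_naturality, ha, germ_sum_smul, Finset.smul_sum]
  have hP := he.stalk hx
  have hQ := hg.stalk hx
  constructor
  · exact ((Function.Injective.of_comp_iff' _ hP).symm.trans
      (iff_of_eq (congrArg Function.Injective hsq))).trans (hQ.1.of_comp_iff _)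
  · exact ((hP.2.of_comp_iff _).symm.trans
      (iff_of_eq (congrArg Function.Surjective hsq))).trans (Function.Surjective.of_comp_iff' hQ _)

/-- Coordinates of images. -/
theorem exists_matrix (hg : IsBas N D g) (z : Fin n → Γ(N, D)) :
    ∃ a : Matrix (Fin n) (Fin m) Γ(X, D), ∀ i, z i = ∑ j, a i j • g j := by
  choose c hc using fun i => (hg D le_rfl).2 (z i)
  exact ⟨c, fun i => by simpa only [mres_id] using (hc i).symm⟩

end Stalk

end Groth.Agent.LiftFib11
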