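import Groth.Agent.Lib.HilbObs3.HomAdj
import Groth.Agent.Lib.PushUnit3.Basic
import Groth.Agent.Lib.TensorMod.PullTensor
import Groth.Agent.Lib.PicDesc21.Frame

/-!
# Pullback of sheaves of homomorphisms between finite locally free modules
-/

set_option autoImplicit false
set_option linter.style.haveILetI false
set_option backward.isDefEq.respectTransparency false

universe u

open CategoryTheory CategoryTheory.Limits AlgebraicGeometry TopologicalSpace

noncomputable section

namespace Groth.Agent.LiftFib11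

open Groth.Agent.M1 Groth.Agent.P1Split

variable {X Y : Scheme.{u}} (f : Y ⟶ X) (F G : X.Modules)

/-- A section of `Hom` applied to a section. -/
def hev {U : X.Opens} (φ : Γ(M2.homMod F G, U)) {V : X.Opens} (h : V ≤ U) : Γ(F, V) →ₗ[Γ(X, V)] Γ(G, V) :=
  (M2.homSecOf F G φ).1 ⟨V, h⟩

theorem hev_mres {U : X.Opens} (φ : Γ(M2.homMod F G, U)) {V W : X.Opens} (h : V ≤ U) (h' : W ≤ V) (s : Γ(F, V)) :
    hev F G φ (h'.trans h) (M1.mres F h' s) = M1.mres G h' (hev F G φ h s) :=
  (M2.homSecOf F G φ).2 ⟨V, h⟩ ⟨W, h'.trans h⟩ h' s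

theorem mres_hev {U U' : X.Opens} (φ : Γ(M2.homMod F G, U)) (h' : U' ≤ U) {V : X.Opens} (h : V ≤ U')
    (s : Γ(F, V)) : hev F G (M1.mres (M2.homMod F G) h' φ) h s = hev F G φ (h.trans h') s := rfl

theorem hev_ext {U : X.Opens} (φ ψ : Γ(M2.homMod F G, U))
    (h : ∀ (V : X.Opens) (hV : V ≤ U) (s : Γ(F, V)), hev F G φ hV s = hev F G ψ hV s) : φ = ψ :=
  Subtype.ext (funext fun V => LinearMap.ext fun s => h V.1 V.2 s)

variable {F} in
/-- Homomorphisms are determined by, and arbitrary on, a basis. -/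
theorem bijective_eval {n : ℕ} {D : X.Opens} {e : Fin n → Γ(F, D)} (he : IsBas F D e) {V : X.Opens} (hV : V ≤ D) :
    Function.Bijective fun φ : Γ(M2.homMod F G, V) => fun i => hev F G φ le_rfl (M1.mres F hV (e i)) := by
  refine ⟨fun φ ψ h => hev_ext F G φ ψ fun W hW s => ?_, fun z => ?_⟩
  · obtain ⟨c, rfl⟩ := (he W (hW.trans hV)).2 s
    simp only [map_sum, map_smul]
    refine Finset.sum_congr rfl fun i _ => congrArg (c i • ·) ?_
    rw [← mres_mres F hV hW, hev_mres F G φ le_rfl hW, hev_mres F G ψ le_rfl hW]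
    exact congrArg (M1.mres G hW) (congrFun h i)
  · let coef : ∀ (W : X.Opens) (hW : W ≤ V), Γ(F, W) → Fin n → Γ(X, W) := fun W hW =>
      Function.surjInv (he W (hW.trans hV)).2
    have hcoef : ∀ (W : X.Opens) (hW : W ≤ V) (s : Γ(F, W)),
        ∑ i, coef W hW s i • M1.mres F (hW.trans hV) (e i) = s := fun W hW s =>
      Function.surjInv_eq (he W (hW.trans hV)).2 s
    have huniq : ∀ (W : X.Opens) (hW : W ≤ V) (s : Γ(F, W)) (c : Fin n → Γ(X, W)),
        ∑ i, c i • M1.mres F (hW.trans hV) (e i) = s → coef W hW s = c := fun W hW s c hc =>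
      (he W (hW.trans hV)).1 ((hcoef W hW s).trans hc.symm)
    let ψ : M2.HomFam F G V := fun W =>
      { toFun := fun s => ∑ i, coef W.1 W.2 s i • M1.mres G W.2 (z i)
        map_add' := fun s t => by
          rw [huniq W.1 W.2 (s + t) (coef W.1 W.2 s + coef W.1 W.2 t)
            (by simp only [Pi.add_apply, add_smul, Finset.sum_add_distrib, hcoef]), ← Finset.sum_add_distrib]
          exact Finset.sum_congr rfl fun i _ => add_smul _ _ _
        map_smul' := fun r s => by
          rw [huniq W.1 W.2 (r • s) (r • coef W.1 W.2 s)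
            (by simp only [Pi.smul_apply, smul_eq_mul, mul_smul, ← Finset.smul_sum, hcoef]), RingHom.id_apply,
            Finset.smul_sum]
          exact Finset.sum_congr rfl fun i _ => mul_smul _ _ _ }
    refine ⟨(⟨ψ, fun W W' h s => ?_⟩ : M2.HomSec F G V), funext fun i => ?_⟩
    · show ∑ i, coef W'.1 W'.2 (M1.mres F h s) i • M1.mres G W'.2 (z i) =
        M1.mres G h (∑ i, coef W.1 W.2 s i • M1.mres G W.2 (z i))
      rw [huniq W'.1 W'.2 (M1.mres F h s) (fun i => ores h (coef W.1 W.2 s i))]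
      · simp only [mres_sum_smul, mres_mres]
      · conv_rhs => rw [← hcoef W.1 W.2 s]
        simp only [mres_sum_smul, mres_mres]
    · show ∑ j, coef V le_rfl (M1.mres F hV (e i)) j • M1.mres G le_rfl (z j) = z i
      classical
      rw [huniq V le_rfl _ (Pi.single i 1) (by
        rw [Finset.sum_eq_single i (fun j _ hj => by rw [Pi.single_eq_of_ne hj, zero_smul]) (by simp),
          Pi.single_eq_same, one_smul])]
      rw [Finset.sum_eq_single i (fun j _ hj => by rw [Pi.single_eq_of_ne hj, zero_smul]) (by simp),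
        Pi.single_eq_same, one_smul, mres_id]

/-- Evaluation, sections first. -/
def evT : CohB1.tensorMod F (M2.homMod F G) ⟶ G := M2.mkHom (HilbObs3.uncurryBiMap F (𝟙 (M2.homMod F G)))

theorem evT_tsec {U : X.Opens} (s : Γ(F, U)) (φ : Γ(M2.homMod F G, U)) :
    (evT F G).app U (M2.tsec F (M2.homMod F G) s φ) = hev F G φ le_rfl s :=
  M2.mkHom_tsec _ _ _

/-- The comparison `f^* Hom(F, G) ⟶ Hom(f^* F, f^* G)`. -/
def homCmp : (Scheme.Modules.pullback f).obj (M2.homMod F G) ⟶
    M2.homMod ((Scheme.Modules.pullback f).obj F) ((Scheme.Modules.pullback f).obj G) :=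
  HilbObs3.homEquivT _ _ _ ((M2.pullTensorIso f F (M2.homMod F G)).inv ≫ (Scheme.Modules.pullback f).map (evT F G))

theorem pullback_map_pullSec {M N : X.Modules} (φ : M ⟶ N) {U : X.Opens} (s : Γ(M, U)) :
    ((Scheme.Modules.pullback f).map φ).app (f ⁻¹ᵁ U) (M2.pullSec f M s) = M2.pullSec f N (φ.app U s) :=
  (congrArg (fun ψ => ψ.app U s) ((Scheme.Modules.pullbackPushforwardAdjunction f).unit.naturality φ)).symm

/-- The comparison on pulled back sections. -/
theorem hev_homCmp {U : X.Opens} (φ : Γ(M2.homMod F G, U)) {V : X.Opens} (h : V ≤ U) (s : Γ(F, V)) :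
    hev _ _ ((homCmp f F G).app (f ⁻¹ᵁ U) (M2.pullSec f _ φ)) (f.preimage_mono h) (M2.pullSec f F s) =
      M2.pullSec f G (hev F G φ h s) := by
  show ((M2.pullTensorIso f F (M2.homMod F G)).inv ≫ (Scheme.Modules.pullback f).map (evT F G)).app (f ⁻¹ᵁ V)
    (M2.tsec _ _ (M2.pullSec f F s) (M1.mres _ (f.preimage_mono h) (M2.pullSec f _ φ))) = _
  rw [← PicDesc21.pullSec_mres f (M2.homMod F G) h φ, ← M2.pullCmp_pullSec, comp_app_apply,
    show (M2.pullTensorIso f F (M2.homMod F G)).inv.app (f ⁻¹ᵁ V)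
      ((M2.pullCmp f F (M2.homMod F G)).app (f ⁻¹ᵁ V)
        (M2.pullSec f _ (M2.tsec F (M2.homMod F G) s (M1.mres _ h φ)))) =
      M2.pullSec f _ (M2.tsec F (M2.homMod F G) s (M1.mres _ h φ)) from by
        rw [← comp_app_apply]
        exact congrArg (fun ψ : (Scheme.Modules.pullback f).obj (CohB1.tensorMod F (M2.homMod F G)) ⟶ _ =>
          ψ.app (f ⁻¹ᵁ V) (M2.pullSec f _ (M2.tsec F (M2.homMod F G) s (M1.mres _ h φ))))
          (M2.pullTensorIso f F (M2.homMod F G)).hom_inv_id,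
    pullback_map_pullSec, evT_tsec]
  rfl

variable {F G}

/-- Elementary homomorphisms form a basis. -/
theorem exists_isBas_homMod {n m : ℕ} {D : X.Opens} {e : Fin n → Γ(F, D)} {g : Fin m → Γ(G, D)}
    (he : IsBas F D e) (hg : IsBas G D g) :
    ∃ φ : Fin (n * m) → Γ(M2.homMod F G, D), IsBas (M2.homMod F G) D φ ∧
      ∀ k i, hev F G (φ k) le_rfl (e i) = if (finProdFinEquiv.symm k).1 = i then g (finProdFinEquiv.symm k).2 else 0 := by
  classical
  choose φ hφ using fun k : Fin (n * m) => (bijective_eval G he (le_refl D)).2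
    (fun i => if (finProdFinEquiv.symm k).1 = i then g (finProdFinEquiv.symm k).2 else 0)
  have hφ' : ∀ k i, hev F G (φ k) le_rfl (e i) =
      if (finProdFinEquiv.symm k).1 = i then g (finProdFinEquiv.symm k).2 else 0 := fun k i => by
    have := congrFun (hφ k) i
    simpa only [mres_id] using this
  refine ⟨φ, fun V hV => ?_, hφ'⟩
  let Φ := fun ψ : Γ(M2.homMod F G, V) => fun i => hev F G ψ le_rfl (M1.mres F hV (e i))
  have hΦ : Function.Bijective Φ := bijective_eval G he hV
  refine ((hΦ.of_comp_iff' _).1 ?_)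
  have key : Φ ∘ (fun c : Fin (n * m) → Γ(X, V) => ∑ k, c k • M1.mres (M2.homMod F G) hV (φ k)) =
      (fun d : Fin n → Fin m → Γ(X, V) => fun i => ∑ j, d i j • M1.mres G hV (g j)) ∘
        fun c i j => c (finProdFinEquiv (i, j)) := by
    funext c i
    simp only [Function.comp_apply, Φ]
    let L : Γ(M2.homMod F G, V) →ₗ[Γ(X, V)] Γ(G, V) :=
      { toFun := fun ψ => hev F G ψ le_rfl (M1.mres F hV (e i))
        map_add' := fun ψ ψ' => rfl
        map_smul' := fun r ψ => by
          show X.presheaf.map (homOfLE le_rfl).op r • hev F G ψ le_rfl (M1.mres F hV (e i)) = _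
          rw [show (homOfLE (le_refl V)).op = 𝟙 _ from rfl, X.presheaf.map_id]
          rfl }
    show L (∑ k, c k • M1.mres (M2.homMod F G) hV (φ k)) = _
    rw [map_sum, ← finProdFinEquiv.sum_comp, Fintype.sum_prod_type, Finset.sum_eq_single i]
    · refine Finset.sum_congr rfl fun j _ => ?_
      rw [map_smul]
      show c _ • hev F G (M1.mres _ hV (φ _)) le_rfl (M1.mres F hV (e i)) = _
      rw [mres_hev, hev_mres F G _ le_rfl hV, hφ', Equiv.symm_apply_apply, if_pos rfl]
    · intro i' _ hi'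
      refine Finset.sum_eq_zero fun j _ => ?_
      rw [map_smul]
      show c _ • hev F G (M1.mres _ hV (φ _)) le_rfl (M1.mres F hV (e i)) = _
      rw [mres_hev, hev_mres F G _ le_rfl hV, hφ', Equiv.symm_apply_apply, if_neg hi', map_zero, smul_zero]
    · exact fun h => absurd (Finset.mem_univ i) h
  rw [key]
  refine Function.Bijective.comp ?_ ?_
  · exact ((Equiv.piCongrRight fun i => Equiv.ofBijective _ (hg V hV))).bijective
  · exact ((Equiv.arrowCongr finProdFinEquiv.symm (Equiv.refl Γ(X, V))).trans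
      (Equiv.curry (Fin n) (Fin m) Γ(X, V))).bijective

/-- For finite locally free modules `Hom` commutes with pullback. -/
theorem isIso_homCmp (hF : FlatMod.IsFinLocFree F) (hG : FlatMod.IsFinLocFree G) : IsIso (homCmp f F G) := by
  refine PushUnit3.isIso_of_locally_bijective _ fun y => ?_
  obtain ⟨n, D₁, e₁, hy₁, he₁⟩ := PushUnit3.exists_isBas_nhd' hF (f y)
  obtain ⟨m, D₂, g₂, hy₂, hg₂⟩ := PushUnit3.exists_isBas_nhd' hG (f y)
  have he := he₁.mres (inf_le_left : D₁ ⊓ D₂ ≤ D₁)
  have hg := hg₂.mres (inf_le_right : D₁ ⊓ D₂ ≤ D₂)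
  obtain ⟨φ, hb, hφ⟩ := exists_isBas_homMod he hg
  refine ⟨f ⁻¹ᵁ (D₁ ⊓ D₂), ⟨hy₁, hy₂⟩, fun V hV => ?_⟩
  obtain ⟨ψ, hb', hψ⟩ := exists_isBas_homMod (AmpleFin18.isBas_pullback f he)
    (AmpleFin18.isBas_pullback f hg)
  have himg : ∀ k, (homCmp f F G).app _ (M2.pullSec f _ (φ k)) = ψ k := by
    intro k
    refine (bijective_eval _ (AmpleFin18.isBas_pullback f he) (le_refl (f ⁻¹ᵁ (D₁ ⊓ D₂)))).1 ?_
    funext i
    simp only [mres_id]
    rw [hev_homCmp f F G (φ k) le_rfl, hφ, hψ]
    split_ifs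
    · rfl
    · exact map_zero _
  refine ((AmpleFin18.isBas_pullback f hb V hV).of_comp_iff _).1 ?_
  rw [show ⇑((homCmp f F G).app V) ∘ (fun c : Fin (n * m) → Γ(Y, V) => ∑ l, c l • M1.mres _ hV (M2.pullSec f _ (φ l))) =
    fun c => ∑ l, c l • M1.mres _ hV (ψ l) from funext fun c => by
      simp only [Function.comp_apply, app_sum_smul, app_mres, himg]]
  exact hb' V hV

end Groth.Agent.LiftFib11
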