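import Groth.Agent.Lib.LiftFib11.Near
import Groth.Agent.Lib.LiftFib11.HomBC
import Groth.Agent.Lib.LiftFib11.Coord
import Groth.Agent.Lib.DivDesc12.Fibre
import Groth.Agent.Lib.HomShH7.LocFree
import Groth.Agent.Lib.ModM1.Coh

/-!
# Lifting homomorphisms of locally free modules from a fibre
-/

set_option autoImplicit false
set_option linter.style.haveILetI false
set_option backward.isDefEq.respectTransparency false

universe u

open CategoryTheory CategoryTheory.Limits AlgebraicGeometry TopologicalSpace IsLocalRing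

noncomputable section

namespace Groth.Agent.LiftFib11

open Groth.Agent.M1 Groth.Agent.P1Split

variable {X S : Scheme.{u}}

/-- A morphism as a section of `Hom`. -/
def secOfMor {M N : X.Modules} (φ : M ⟶ N) (U : X.Opens) : Γ(M2.homMod M N, U) :=
  (⟨fun W =>
      { toFun := φ.app W.1
        map_add' := map_add (φ.app W.1).hom
        map_smul' := fun r s => φ.app_smul r s },
    fun _ _ h s => M1.app_mres φ h s⟩ : M2.HomSec M N U)

theorem hev_secOfMor {M N : X.Modules} (φ : M ⟶ N) {U V : X.Opens} (h : V ≤ U) (s : Γ(M, V)) :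
    hev M N (secOfMor φ U) h s = φ.app V s := rfl

/-- A global section of `Hom` as a morphism. -/
def morOfSec {F G : X.Modules} {U : X.Opens} (hU : ∀ W : X.Opens, W ≤ U) (t : Γ(M2.homMod F G, U)) : F ⟶ G :=
  ⟨PresheafOfModules.homMk
    { app := fun W => AddCommGrpCat.ofHom (hev F G t (hU W.unop)).toAddMonoidHom
      naturality := fun W W' i => by
        ext s
        exact hev_mres F G t (hU W.unop) i.unop.le s }
    (fun W r s => (hev F G t (hU W.unop)).map_smul r s)⟩

theorem morOfSec_app {F G : X.Modules} {U : X.Opens} (hU : ∀ W : X.Opens, W ≤ U) (t : Γ(M2.homMod F G, U))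
    {W : X.Opens} (s : Γ(F, W)) : (morOfSec hU t).app W s = hev F G t (hU W) s := rfl

/-- A section of `Hom` over `U` as a morphism of the restrictions. -/
def morOfSecRes {F G : X.Modules} (U : X.Opens) (t : Γ(M2.homMod F G, U)) :
    F.restrict U.ι ⟶ G.restrict U.ι :=
  ⟨PresheafOfModules.homMk
    { app := fun W => AddCommGrpCat.ofHom (hev F G t (U.ι_image_le W.unop)).toAddMonoidHom
      naturality := fun W W' i => by
        ext s
        exact hev_mres F G t (U.ι_image_le W.unop) (U.ι.opensFunctor.map i.unop).le s }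
    (fun W r s => (hev F G t (U.ι_image_le W.unop)).map_smul _ s)⟩

theorem morOfSecRes_app {F G : X.Modules} (U : X.Opens) (t : Γ(M2.homMod F G, U)) {W : (U : Scheme.{u}).Opens}
    (s : Γ(F.restrict U.ι, W)) : (morOfSecRes U t).app W s = hev F G t (U.ι_image_le W) s := rfl

/-- Isomorphic modules have the same cohomology. -/
theorem subsingleton_HH_of_iso {M N : X.Modules} (e : M ≅ N) {i : ℕ} (h : Subsingleton (Coh.HH X M i)) :
    Subsingleton (Coh.HH X N i) :=
  ((Sheaf.functorH _ i).mapIso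
    ((SheafOfModules.toSheaf _).mapIso e)).addCommGroupIsoToAddEquiv.toEquiv.subsingleton_congr.1 h

/-- Homomorphisms on a fibre without `H¹` lift to a neighbourhood. -/
theorem exists_lift_hom (f : X ⟶ S) [IsProper f] [Flat f] [IsLocallyNoetherian S] {F G : X.Modules}
    (hF : FlatMod.IsFinLocFree F) (hG : FlatMod.IsFinLocFree G) (s : S)
    (h1 : Subsingleton (Coh.HH (f.fiber s) (M2.homMod (CohIII.fiberMod f F s) (CohIII.fiberMod f G s)) 1))
    (u₀ : CohIII.fiberMod f F s ⟶ CohIII.fiberMod f G s) :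
    ∃ (V : S.Opens) (_ : s ∈ V) (t : Γ(M2.homMod F G, f ⁻¹ᵁ V)),
      ∀ (W : X.Opens) (hW : W ≤ f ⁻¹ᵁ V) (a : Γ(F, W)),
        u₀.app (f.fiberι s ⁻¹ᵁ W) (M2.pullSec (f.fiberι s) F a) =
          M2.pullSec (f.fiberι s) G (hev F G t hW a) := by
  haveI : IsLocallyNoetherian X := LocallyOfFiniteType.isLocallyNoetherian f
  have hK := HomShH7.isFinLocFree_homMod hF hG
  have hfp : CohB1.IsFP (M2.homMod F G) := M1.isFP_of_isFinLocFree hK
  haveI : Coh.IsQCoh (M2.homMod F G) := ((M1.isCoh_iff_isFP _).2 hfp).1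
  have hfl : FlatMod.IsFlatOver f (M2.homMod F G) :=
    DPerf.isFlatOver_of_isFlat f (KFlat.Sch.isFlat_of_isFinLocFree hK)
  let ι := f.fiberι s
  haveI := isIso_homCmp ι hF hG
  have hH : Subsingleton (CohIII.fiberH f (M2.homMod F G) s 1) :=
    subsingleton_HH_of_iso (asIso (homCmp ι F G)).symm h1
  obtain ⟨V, hs, t, ht⟩ := exists_lift_section hfp hfl s hH ((inv (homCmp ι F G)).app ⊤ (secOfMor u₀ ⊤))
  refine ⟨V, hs, t, fun W hW a => ?_⟩
  rw [← hev_homCmp ι F G t hW a, ← hev_secOfMor u₀ (le_top : ι ⁻¹ᵁ W ≤ ⊤)]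
  have h2 : secOfMor u₀ ⊤ = M1.mres _ (le_preimage f hs) ((homCmp ι F G).app _ (M2.pullSec ι _ t)) := by
    rw [← app_mres, ht, ← comp_app_apply, IsIso.inv_hom_id]
    rfl
  rw [h2, mres_hev]

theorem apply_fiberι (f : X ⟶ S) (s : S) (w : f.fiber s) : f (f.fiberι s w) = s :=
  (f.range_fiberι s).le ⟨w, rfl⟩

/-- The kernel of restriction to a fibre on stalks. -/
theorem fiberι_stalkMap_eq_zero_iff (f : X ⟶ S) (s : S) (w : f.fiber s)
    (b : X.presheaf.stalk (f.fiberι s w)) :
    (f.fiberι s).stalkMap w b = 0 ↔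
      b ∈ (maximalIdeal (S.presheaf.stalk (f (f.fiberι s w)))).map (f.stalkMap (f.fiberι s w)).hom := by
  have hx := apply_fiberι f s w
  have key : ∀ (x : X) {y : S} (hx : f x = y) (h : f x ⤳ y),
      (maximalIdeal (S.presheaf.stalk y)).map (DivDesc12.σ f x h) =
        (maximalIdeal (S.presheaf.stalk (f x))).map (f.stalkMap x).hom := by
    intro x y hx h
    subst hx
    congr 1
    ext a
    simp [DivDesc12.σ, DivDesc12.sp]
  rw [DivDesc12.stalkMap_fiberι_eq_zero_iff f _ hx (specializes_of_eq hx) w rfl b, key _ hx]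

variable {F G : X.Modules} {n m : ℕ} {D : X.Opens} {e : Fin n → Γ(F, D)} {g : Fin m → Γ(G, D)}

/-- The stalks of a map on the fibre in coordinates. -/
theorem fibre_coord (f : X ⟶ S) (s : S) (u₀ : CohIII.fiberMod f F s ⟶ CohIII.fiberMod f G s)
    (he : IsBas F D e) (hg : IsBas G D g) (a : Matrix (Fin n) (Fin m) Γ(X, D))
    (ha : ∀ i, u₀.app (f.fiberι s ⁻¹ᵁ D) (M2.pullSec (f.fiberι s) F (e i)) =
      M2.pullSec (f.fiberι s) G (∑ j, a i j • g j))
    (w : f.fiber s) (hw : f.fiberι s w ∈ D) :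
    (Function.Injective ((stalkAb w).map u₀) ↔
      Function.Injective ((a.map (X.presheaf.germ D _ hw)).map ((f.fiberι s).stalkMap w).hom).vecMul) ∧
    (Function.Surjective ((stalkAb w).map u₀) ↔
      Function.Surjective ((a.map (X.presheaf.germ D _ hw)).map ((f.fiberι s).stalkMap w).hom).vecMul) := by
  let ι := f.fiberι s
  have h := stalk_coord u₀ (AmpleFin18.isBas_pullback ι he) (AmpleFin18.isBas_pullback ι hg)
    (a.map (ι.app D)) (fun i => by
      rw [ha i]
      simp only [map_sum, M2.pullSec_smul, Matrix.map_apply]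
      rfl) (show w ∈ ι ⁻¹ᵁ D from hw)
  have e : (a.map (ι.app D)).map ((f.fiber s).presheaf.germ (ι ⁻¹ᵁ D) w hw) =
      (a.map (X.presheaf.germ D _ hw)).map (ι.stalkMap w).hom := by
    ext i j
    exact (Scheme.Hom.germ_stalkMap_apply ι D w hw (a i j)).symm
  rwa [e] at h

/-- Bases near a point for two finite locally free modules. -/
theorem exists_bases (hF : FlatMod.IsFinLocFree F) (hG : FlatMod.IsFinLocFree G) {x : X} {U : X.Opens}
    (hx : x ∈ U) :
    ∃ (n m : ℕ) (D : X.Opens) (e : Fin n → Γ(F, D)) (g : Fin m → Γ(G, D)),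
      x ∈ D ∧ D ≤ U ∧ IsBas F D e ∧ IsBas G D g := by
  obtain ⟨n, D₁, e, hx₁, he⟩ := PushUnit3.exists_isBas_nhd' hF x
  obtain ⟨m, D₂, g, hx₂, hg⟩ := PushUnit3.exists_isBas_nhd' hG x
  exact ⟨n, m, D₁ ⊓ D₂ ⊓ U, _, _, ⟨⟨hx₁, hx₂⟩, hx⟩, inf_le_right,
    he.mres (inf_le_left.trans inf_le_left), hg.mres (inf_le_left.trans inf_le_right)⟩

/-- An epimorphism on a fibre is surjective on the stalks over it. -/
theorem surjective_stalk_of_fibre (f : X ⟶ S) (hF : FlatMod.IsFinLocFree F) (hG : FlatMod.IsFinLocFree G)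
    (s : S) (u : F ⟶ G) (hu : Epi ((Scheme.Modules.pullback (f.fiberι s)).map u)) (w : f.fiber s) :
    Function.Surjective ((stalkAb (f.fiberι s w)).map u) := by
  obtain ⟨n, m, D, e, g, hxD, -, he, hg⟩ := exists_bases hF hG (Opens.mem_top (f.fiberι s w))
  obtain ⟨a, ha⟩ := exists_matrix hg fun i => u.app D (e i)
  refine (stalk_coord u he hg a ha hxD).2.2
    (surjective_vecMul_of_map _ ((f.fiberι s).stalkMap_surjective w) _ ?_)
  refine (fibre_coord f s ((Scheme.Modules.pullback (f.fiberι s)).map u) he hg a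
    (fun i => (pullback_map_pullSec _ u (e i)).trans (congrArg _ (ha i))) w hxD).2.1 ?_
  exact (epi_iff_stalk _).1 hu w

/-- A monomorphism on a fibre is injective on the stalks over it. -/
theorem injective_stalk_of_fibre (f : X ⟶ S) [Flat f] [IsLocallyNoetherian X] [IsLocallyNoetherian S]
    (hF : FlatMod.IsFinLocFree F) (hG : FlatMod.IsFinLocFree G) (s : S) (u : F ⟶ G)
    (hu : Mono ((Scheme.Modules.pullback (f.fiberι s)).map u)) (w : f.fiber s) :
    Function.Injective ((stalkAb (f.fiberι s w)).map u) := by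
  let x := f.fiberι s w
  obtain ⟨n, m, D, e, g, hxD, -, he, hg⟩ := exists_bases hF hG (Opens.mem_top x)
  obtain ⟨a, ha⟩ := exists_matrix hg fun i => u.app D (e i)
  letI : Algebra (S.presheaf.stalk (f x)) (X.presheaf.stalk x) := (f.stalkMap x).hom.toAlgebra
  haveI : IsLocalHom (algebraMap (S.presheaf.stalk (f x)) (X.presheaf.stalk x)) :=
    inferInstanceAs (IsLocalHom (f.stalkMap x).hom)
  haveI : Module.Flat (S.presheaf.stalk (f x)) (X.presheaf.stalk x) := Flat.stalkMap f x
  refine (stalk_coord u he hg a ha hxD).1.2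
    (injective_vecMul_of_map (S.presheaf.stalk (f x)) ((f.fiberι s).stalkMap w).hom
      (fiberι_stalkMap_eq_zero_iff f s w) _ ?_)
  refine (fibre_coord f s ((Scheme.Modules.pullback (f.fiberι s)).map u) he hg a
    (fun i => (pullback_map_pullSec _ u (e i)).trans (congrArg _ (ha i))) w hxD).1.1 ?_
  exact (mono_iff_stalk _).1 hu w

/-- An isomorphism on a fibre given by a section of `Hom` is an isomorphism near each point of the fibre. -/
theorem exists_bijective_near (f : X ⟶ S) (hF : FlatMod.IsFinLocFree F) (hG : FlatMod.IsFinLocFree G) (s : S)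
    (θ : CohIII.fiberMod f F s ≅ CohIII.fiberMod f G s) {U : X.Opens} (t : Γ(M2.homMod F G, U))
    (ht : ∀ (W : X.Opens) (hW : W ≤ U) (a : Γ(F, W)),
      θ.hom.app (f.fiberι s ⁻¹ᵁ W) (M2.pullSec (f.fiberι s) F a) = M2.pullSec (f.fiberι s) G (hev F G t hW a))
    (w : f.fiber s) (hw : f.fiberι s w ∈ U) :
    ∃ W : X.Opens, f.fiberι s w ∈ W ∧ ∀ (W' : X.Opens) (hU : W' ≤ U), W' ≤ W →
      Function.Bijective (hev F G t hU) := by
  obtain ⟨n, m, D, e, g, hxD, hDU, he, hg⟩ := exists_bases hF hG hw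
  obtain ⟨a, ha⟩ := exists_matrix hg fun i => hev F G t hDU (e i)
  have hc := fibre_coord f s θ.hom he hg a (fun i => (ht D hDU (e i)).trans (congrArg _ (ha i))) w hxD
  have hb := ConcreteCategory.bijective_of_isIso ((stalkAb w).map θ.hom)
  have hn : n = m := card_eq_of_bijective _ ⟨hc.1.1 hb.1, hc.2.1 hb.2⟩
  subst hn
  have hdet := isUnit_det_of_bijective_map _ ((f.fiberι s).stalkMap_surjective w) _ (hc.2.1 hb.2)
  refine ⟨X.basicOpen a.det, ?_, fun W' hU hW' => ?_⟩
  · rw [Scheme.mem_basicOpen _ _ _ hxD, RingHom.map_det]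
    exact hdet
  · have hD : W' ≤ D := hW'.trans (X.basicOpen_le _)
    let aW := a.map (ores hD)
    have hu : IsUnit aW.det := by
      have h1 : IsUnit (ores hW' (ores (X.basicOpen_le a.det) a.det)) :=
        (RingedSpace.isUnit_res_basicOpen X.toRingedSpace a.det).map (ores hW').hom
      rw [show ores hW' (ores (X.basicOpen_le a.det) a.det) = ores hD a.det from
        ores_ores _ _ _] at h1
      rwa [show ores hD a.det = aW.det from RingHom.map_det (ores hD).hom a] at h1
    have hsq : hev F G t hU ∘ (fun c : Fin n → Γ(X, W') => ∑ i, c i • M1.mres F hD (e i)) =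
        (fun c : Fin n → Γ(X, W') => ∑ j, c j • M1.mres G hD (g j)) ∘ aW.vecMul := by
      funext c
      simp only [Function.comp_apply, map_sum, map_smul, Matrix.vecMul, dotProduct, Finset.sum_smul, mul_smul]
      rw [Finset.sum_comm]
      refine Finset.sum_congr rfl fun i _ => ?_
      rw [hev_mres F G t hDU hD, ha, mres_sum_smul, Finset.smul_sum]
      rfl
    refine ((he W' hD).of_comp_iff _).1 ?_
    rw [hsq]
    exact (hg W' hD).comp (bijective_vecMul_of_isUnit_det aW hu)

/-- A morphism is mono, resp. epi, once it is so on stalks over a subset which meets every closed set. -/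
theorem mono_epi_of_closed [IsLocallyNoetherian X] (hF : Coh.IsCoh F) (hG : Coh.IsCoh G) (u : F ⟶ G)
    (Z : Set X) (hZ : ∀ T : Set X, IsClosed T → T.Nonempty → ∃ z ∈ Z, z ∈ T) :
    ((∀ z ∈ Z, Function.Injective ((stalkAb z).map u)) → Mono u) ∧
      ((∀ z ∈ Z, Function.Surjective ((stalkAb z).map u)) → Epi u) := by
  have hker : ∀ x : X, x ∈ CohB1.support (kernel u) ↔ ¬ Function.Injective ((stalkAb x).map u) := by
    intro x
    have hex := (exact_iff_stalk_eq_zero _).1
      (ShortComplex.exact_of_f_is_kernel (ShortComplex.mk (kernel.ι u) u (kernel.condition u))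
        (kernelIsKernel u)) x
    have hmono : Function.Injective ((stalkAb x).map (kernel.ι u)) := (mono_iff_stalk _).1 inferInstance x
    rw [mem_support_iff]
    refine ⟨fun ⟨c, hc⟩ hinj => hc (hmono ?_), fun h => ?_⟩
    · rw [map_zero]
      refine hinj ?_
      rw [map_zero, ← ConcreteCategory.comp_apply, ← Functor.map_comp, kernel.condition, Functor.map_zero]
      rfl
    · rw [injective_iff_map_eq_zero ((stalkAb x).map u).hom] at h
      push Not at h
      obtain ⟨b, hb, hb0⟩ := h
      obtain ⟨c, rfl⟩ := hex b hb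
      exact ⟨c, fun h0 => hb0 (by rw [h0, map_zero])⟩
  have hcok : ∀ x : X, x ∈ CohB1.support (cokernel u) ↔ ¬ Function.Surjective ((stalkAb x).map u) := by
    intro x
    have hex := (exact_iff_stalk_eq_zero _).1
      (ShortComplex.exact_of_g_is_cokernel (ShortComplex.mk u (cokernel.π u) (cokernel.condition u))
        (cokernelIsCokernel u)) x
    have hepi : Function.Surjective ((stalkAb x).map (cokernel.π u)) := (epi_iff_stalk _).1 inferInstance x
    rw [mem_support_iff]
    refine ⟨fun ⟨c, hc⟩ hsurj => hc ?_, fun h => ?_⟩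
    · obtain ⟨b, rfl⟩ := hepi c
      obtain ⟨b', rfl⟩ := hsurj b
      rw [← ConcreteCategory.comp_apply, ← Functor.map_comp, cokernel.condition, Functor.map_zero]
      rfl
    · by_contra h'
      push Not at h'
      exact h fun b => hex b (h' _)
  constructor
  · intro h
    rw [mono_iff_stalk]
    intro x
    by_contra hx
    obtain ⟨z, hzZ, hz⟩ := hZ _ (isClosed_support (isCoh_kernel hF hG.1 u).2) ⟨x, (hker x).2 hx⟩
    exact (hker z).1 hz (h z hzZ)
  · intro h
    rw [epi_iff_stalk]
    intro x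
    by_contra hx
    obtain ⟨z, hzZ, hz⟩ := hZ _ (isClosed_support (isCoh_cokernel hF.1 hG u).2) ⟨x, (hcok x).2 hx⟩
    exact (hcok z).1 hz (h z hzZ)

end Groth.Agent.LiftFib11
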