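import Groth.Agent.Lib.CBC10.Rows0
import Groth.Agent.Lib.DescTriv11.ResField

/-!
# Sections on a fibre without `H¹` lift to a neighbourhood
-/

set_option autoImplicit false
set_option linter.style.haveILetI false
set_option maxHeartbeats 1000000

universe u

open CategoryTheory CategoryTheory.Limits AlgebraicGeometry TopologicalSpace Opposite Groth.Agent.ModLimH13 TensorProduct

noncomputable section

namespace Groth.Agent.LiftFib11

variable {X S : Scheme.{u}} {f : X ⟶ S}

theorem le_preimage (f : X ⟶ S) {s : S} {V : S.Opens} (hs : s ∈ V) :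
    (⊤ : (f.fiber s).Opens) ≤ f.fiberι s ⁻¹ᵁ (f ⁻¹ᵁ V) := DescTriv11.le_preimage_fiberι f hs

theorem exists_lift_section [IsProper f] [IsLocallyNoetherian S] {F : X.Modules} [hF : Coh.IsQCoh F]
    (hfp : CohB1.IsFP F) (hfl : FlatMod.IsFlatOver f F) (s : S)
    (h1 : Subsingleton (CohIII.fiberH f F s 1)) (σ : Γ(CohIII.fiberMod f F s, ⊤)) :
    ∃ (V : S.Opens) (hs : s ∈ V) (t : Γ(F, f ⁻¹ᵁ V)),
      M1.mres _ (le_preimage f hs) (M2.pullSec (f.fiberι s) F t) = σ := by
  haveI : HasInjectiveResolutions X.Modules := CohFound.hasInjectiveResolutions_modules X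
  obtain ⟨V, M, hsV, hflat, -⟩ := CBC10.exists_nhd_H1 hfp hfl s h1
  have h : IsPullback (f.fiberι s) (f.fiberToSpecResidueField s) f (S.fromSpecResidueField s) :=
    IsPullback.of_hasPullback _ _
  let g := S.fromSpecResidueField s
  have eW : (⊤ : (Spec (S.residueField s)).Opens) ≤ g ⁻¹ᵁ V := fun z _ => by
    show g z ∈ V
    rw [S.fromSpecResidueField_apply]
    exact hsV
  letI a₀ := (g.appLE V ⊤ eW).hom.toAlgebra
  obtain ⟨Ψ₀, Ψ, hΨ, hbc⟩ := CBC10.exists_bc0Model h F M.isAffine (isAffineOpen_top _) eW M.computes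
  haveI : ∀ i, Module.Flat Γ(S, V) (M.P.X i) := fun i => inferInstance
  haveI : Module.Flat Γ(S, V) (FlatCxLib.Cok M.P (-1)) := hflat
  have hth := (FlatCxLib.theta_bijective M.P (-((0 : ℕ) : ℤ))
    ((FlatCxLib.preservesEpi_iff M.P (q := -1) (by omega)).2 inferInstance) Γ(Spec (S.residueField s), ⊤)).2
  let pF := (Scheme.Modules.pushforward f).obj F
  let β := CohBC.bc0 f g (f.fiberToSpecResidueField s) (f.fiberι s) h.w F
  let ga : Γ(S, V) →+* Γ(Spec (S.residueField s), ⊤) := (g.appLE V ⊤ eW).hom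
  have hlin : ∀ (a : Γ(S, V)) (z : Γ(pF, V)),
      β.app ⊤ (res' g pF eW (a • z)) = ga a • β.app ⊤ (res' g pF eW z) := fun a z => by
    rw [res'_smul]
    exact Scheme.Modules.Hom.app_smul β _ _
  have hkey : ∀ y, ∃ (b : Γ(S, V)) (z : Γ(pF, V)), s ∈ S.basicOpen b ∧
      ga b • Ψ y = β.app ⊤ (res' g pF eW z) := by
    intro y
    obtain ⟨x, rfl⟩ := hth y
    have h0 : ∃ (b : Γ(S, V)) (z : Γ(pF, V)), s ∈ S.basicOpen b ∧
        ga b • (0 : Γ((Scheme.Modules.pushforward (f.fiberToSpecResidueField s)).obj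
          ((Scheme.Modules.pullback (f.fiberι s)).obj F), ⊤)) = β.app ⊤ (res' g pF eW z) :=
      ⟨1, 0, by rw [Scheme.basicOpen_of_isUnit _ isUnit_one]; exact hsV, by
        rw [smul_zero, ← zero_smul Γ(S, V) (0 : Γ(pF, V)), hlin, map_zero, zero_smul]⟩
    induction x using TensorProduct.induction_on with
    | zero =>
      rw [map_zero, map_zero]
      exact h0
    | add p q hp hq =>
      obtain ⟨b, z, hb, hbz⟩ := hp
      obtain ⟨b', z', hb', hbz'⟩ := hq
      refine ⟨b * b', b' • z + b • z', by rw [Scheme.basicOpen_mul]; exact ⟨hb, hb'⟩, ?_⟩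
      rw [map_add, map_add, smul_add, res'_add, map_add, hlin, hlin, ← hbz, ← hbz', map_mul, smul_smul, smul_smul,
        mul_comm (ga b) (ga b')]
    | tmul x c =>
      obtain ⟨b, a, hb, hba⟩ := DescTriv11.exists_frac_residueField M.isAffine hsV c
      refine ⟨b, a • Ψ₀ x, hb, ?_⟩
      rw [hlin, hbc, FlatCxLib.theta_tmul]
      have hc : LinearMap.toSpanSingleton Γ(S, V) Γ(Spec (S.residueField s), ⊤) c =
          (LinearMap.mulLeft Γ(S, V) c).comp (Algebra.linearMap Γ(S, V) Γ(Spec (S.residueField s), ⊤)) :=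
        LinearMap.ext fun r => by
          rw [LinearMap.comp_apply, LinearMap.toSpanSingleton_apply, Algebra.linearMap_apply,
            LinearMap.mulLeft_apply, Algebra.smul_def, mul_comm]
      rw [hc, FlatCxLib.Tmap_comp]
      refine ((congrArg (ga b • ·) (hΨ c _)).trans (smul_smul (ga b) c _)).trans ?_
      exact congrArg (· • _) hba
  let σ' : Γ((Scheme.Modules.pushforward (f.fiberToSpecResidueField s)).obj
      ((Scheme.Modules.pullback (f.fiberι s)).obj F), ⊤) := σ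
  obtain ⟨b, z, hb, hbz⟩ := hkey (Ψ.symm σ')
  replace hbz : ga b • σ' = β.app ⊤ (res' g pF eW z) := (congrArg (ga b • ·) (Ψ.apply_symm_apply σ')).symm.trans hbz
  let V' := S.basicOpen b
  have eW' : (⊤ : (Spec (S.residueField s)).Opens) ≤ g ⁻¹ᵁ V' := fun w _ => by
    show g w ∈ V'
    rw [S.fromSpecResidueField_apply]
    exact hb
  have hV' : V' ≤ V := S.basicOpen_le b
  obtain ⟨u, hu⟩ : IsUnit (S.presheaf.map (homOfLE hV').op b : Γ(S, V')) :=
    RingedSpace.isUnit_res_basicOpen S.toRingedSpace b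
  let z' : Γ(pF, V') := (↑u⁻¹ : Γ(S, V')) • M1.mres pF hV' z
  refine ⟨V', hb, z', ?_⟩
  have hlin' : ∀ (a : Γ(S, V')) (w : Γ(pF, V')),
      β.app ⊤ (res' g pF eW' (a • w)) = g.appLE V' ⊤ eW' a • β.app ⊤ (res' g pF eW' w) := fun a w => by
    rw [res'_smul]
    exact Scheme.Modules.Hom.app_smul β _ _
  have hgb : g.appLE V' ⊤ eW' (u : Γ(S, V')) = ga b := by
    rw [hu]
    exact ConcreteCategory.congr_hom (Scheme.Hom.map_appLE g eW' (homOfLE hV').op) b
  have hunit : IsUnit (ga b) := hgb ▸ (u.isUnit.map (g.appLE V' ⊤ eW').hom)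
  have e1 : ga b • β.app ⊤ (res' g pF eW' z') = ga b • σ' := by
    rw [← hgb, ← hlin', smul_smul, Units.mul_inv, one_smul, res'_mres, hgb]
    exact hbz.symm
  exact (CBC10.bc0_res' h.w F eW' z').symm.trans ((hunit.smul_left_cancel).1 e1)

end Groth.Agent.LiftFib11
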