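import Groth.Agent.Lib.LiftFib11.Lift
import Groth.Agent.Lib.Twist.Gen
import Groth.Agent.Lib.PicDesc21.Frame
import Groth.Agent.Lib.Twist.Pullback
import Groth.Agent.Lib.TensorMod.Dual
import Groth.Agent.Lib.TensorMod.PullTensor
import Groth.Agent.Lib.DPerf.RelAmp
import Groth.Agent.Lib.KFlat.LpullPC

/-!
# Invertible modules trivial on a fibre without `H¹` are trivial nearby
-/

set_option autoImplicit false
set_option linter.style.haveILetI false
set_option backward.isDefEq.respectTransparency false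

universe u

open CategoryTheory CategoryTheory.Limits AlgebraicGeometry TopologicalSpace

noncomputable section

namespace Groth.Agent.LiftFib11

open Groth.Agent.M1

variable {X S : Scheme.{u}} (f : X ⟶ S)

/-- A closed map has the preimage of a neighbourhood inside any neighbourhood of a fibre. -/
theorem exists_preimage_le [UniversallyClosed f] (O : X.Opens) (s : S) (V : S.Opens) (hs : s ∈ V)
    (h : ∀ x, f x = s → x ∈ O) : ∃ V' : S.Opens, V' ≤ V ∧ s ∈ V' ∧ f ⁻¹ᵁ V' ≤ O := by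
  refine ⟨⟨(V : Set S) ∩ (f '' (O : Set X)ᶜ)ᶜ,
      V.2.inter (f.isClosedMap _ O.2.isClosed_compl).isOpen_compl⟩, Set.inter_subset_left, ⟨hs, ?_⟩, ?_⟩
  · rintro ⟨x, hx, hfx⟩
    exact hx (h x hfx)
  · rintro x ⟨-, hx⟩
    by_contra hxO
    exact hx ⟨x, hxO, rfl⟩

/-- A section generating on a fibre generates near it. -/
theorem exists_isGen_near [UniversallyClosed f] {N : X.Modules} (hN : PicF.IsInvertible N) {s : S}
    {V : S.Opens} (hs : s ∈ V) (t : Γ(N, f ⁻¹ᵁ V))
    (ht : Twist.IsGen ((Scheme.Modules.pullback (f.fiberι s)).obj N) ⊤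
      (M1.mres _ (le_preimage f hs) (M2.pullSec (f.fiberι s) N t))) :
    ∃ (V' : S.Opens) (h : V' ≤ V), s ∈ V' ∧ Twist.IsGen N (f ⁻¹ᵁ V') (M1.mres N (f.preimage_mono h) t) := by
  let O : Set X := {x | ∃ (W : X.Opens) (h : W ≤ f ⁻¹ᵁ V), x ∈ W ∧ Twist.IsGen N W (M1.mres N h t)}
  have hO : IsOpen O := isOpen_iff_forall_mem_open.2 fun x ⟨W, h, hx, hg⟩ =>
    ⟨W, fun z hz => ⟨W, h, hz, hg⟩, W.2, hx⟩
  obtain ⟨V', hV'V, hsV', hle⟩ := exists_preimage_le f ⟨O, hO⟩ s V hs fun x hx => by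
    obtain ⟨w, hw⟩ : x ∈ Set.range (f.fiberι s) := by rw [f.range_fiberι]; exact hx
    subst hw
    obtain ⟨D, e, hxD, he⟩ := PicDesc21.exists_gen hN (f.fiberι s w)
    have hxV : f.fiberι s w ∈ f ⁻¹ᵁ V := le_preimage f hs (Opens.mem_top w)
    let W : X.Opens := D ⊓ f ⁻¹ᵁ V
    obtain ⟨a, ha⟩ := (he W inf_le_left).2 (M1.mres N inf_le_right t)
    have hxW : f.fiberι s w ∈ W := ⟨hxD, hxV⟩
    let ι := f.fiberι s
    let P := (Scheme.Modules.pullback ι).obj N
    let W₀ : (f.fiber s).Opens := ι ⁻¹ᵁ W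
    have he' : Twist.IsGen P W₀ (M2.pullSec ι N (M1.mres N (inf_le_left : W ≤ D) e)) :=
      (he.mres inf_le_left).pullback ι
    have ht' : Twist.IsGen P W₀ (M1.mres P le_top (M1.mres P (le_preimage f hs) (M2.pullSec ι N t))) :=
      ht.mres le_top
    have heq : M1.mres P le_top (M1.mres P (le_preimage f hs) (M2.pullSec ι N t)) =
        ι.app W a • M2.pullSec ι N (M1.mres N (inf_le_left : W ≤ D) e) := by
      rw [← M2.pullSec_smul, mres_mres, show a • M1.mres N (inf_le_left : W ≤ D) e = _ from ha,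
        PicDesc21.pullSec_mres]
    obtain ⟨c, hc⟩ := (ht' W₀ le_rfl).2 (M2.pullSec ι N (M1.mres N (inf_le_left : W ≤ D) e))
    simp only [mres_id] at hc
    rw [heq, ← mul_smul] at hc
    have hca : c * ι.app W a = 1 := (he' W₀ le_rfl).1 (by simpa only [mres_id, one_smul] using hc)
    have hu : IsUnit (X.presheaf.germ W (ι w) hxW a) := by
      refine isUnit_of_map_unit (ι.stalkMap w).hom _ ?_
      rw [Scheme.Hom.germ_stalkMap_apply ι W w hxW a]
      exact (IsUnit.of_mul_eq_one_right c hca).map _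
    refine ⟨X.basicOpen a, (X.basicOpen_le a).trans inf_le_right, by rw [Scheme.mem_basicOpen _ _ _ hxW]; exact hu, ?_⟩
    have h1 : M1.mres N ((X.basicOpen_le a).trans inf_le_right) t =
        ores (X.basicOpen_le a) a • M1.mres N ((X.basicOpen_le a).trans inf_le_left) e := by
      rw [← mres_mres N (inf_le_right : W ≤ f ⁻¹ᵁ V) (X.basicOpen_le a), ← ha, mres_smul, mres_mres]
    rw [h1]
    intro U hU
    have h2 : (fun r : Γ(X, U) => r • M1.mres N hU (ores (X.basicOpen_le a) a •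
        M1.mres N ((X.basicOpen_le a).trans inf_le_left) e)) =
        (fun r : Γ(X, U) => r • M1.mres N (hU.trans ((X.basicOpen_le a).trans inf_le_left)) e) ∘
          fun r => r * ores hU (ores (X.basicOpen_le a) a) := by
      funext r
      simp only [Function.comp_apply, mres_smul, mres_mres, mul_smul]
    rw [h2]
    exact (he U _).comp
      (((RingedSpace.isUnit_res_basicOpen X.toRingedSpace a).map (ores hU).hom).unit.mulRight_bijective)
  refine ⟨V', hV'V, hsV', Twist.isGen_of_stalk fun x hx => ?_⟩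
  obtain ⟨W, hW, hxW, hg⟩ := hle hx
  have h := hg.stalk hxW
  rw [germ_mres] at h
  rwa [germ_mres]

/-- An invertible module trivial on a fibre without `H¹` is trivial over a neighbourhood. -/
theorem exists_trivial_near [IsProper f] [Flat f] [IsLocallyNoetherian S] {N : X.Modules}
    (hN : PicF.IsInvertible N) (s : S)
    (h1 : Subsingleton (Coh.HH (f.fiber s) (Coh.structureModule (f.fiber s)) 1))
    (θ : CohIII.fiberMod f N s ≅ Coh.structureModule (f.fiber s)) :
    ∃ V : S.Opens, s ∈ V ∧ Nonempty (N.restrict (f ⁻¹ᵁ V).ι ≅ Coh.structureModule (f ⁻¹ᵁ V : Scheme.{u})) := by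
  haveI : Coh.IsQCoh N := Twist.isQCoh_of_isInvertible hN
  have hfp : CohB1.IsFP N := M1.isFP_of_isFinLocFree (M2.isFinLocFree_of_isInvertible hN)
  have hfl : FlatMod.IsFlatOver f N := DPerf.isFlatOver_of_isFlat f
    (KFlat.Sch.isFlat_of_isFinLocFree (M2.isFinLocFree_of_isInvertible hN))
  have hH : Subsingleton (CohIII.fiberH f N s 1) := by
    let e := ((Sheaf.functorH _ 1).mapIso ((SheafOfModules.toSheaf _).mapIso θ)).addCommGroupIsoToAddEquiv
    exact e.toEquiv.subsingleton_congr.2 h1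
  obtain ⟨V, hs, t, ht⟩ := exists_lift_section hfp hfl s hH (θ.inv.app ⊤ (one ⊤))
  have hgen : Twist.IsGen ((Scheme.Modules.pullback (f.fiberι s)).obj N) ⊤ (θ.inv.app ⊤ (one ⊤)) := by
    intro U hU
    have h2 : (fun r : Γ(f.fiber s, U) => r • M1.mres ((Scheme.Modules.pullback (f.fiberι s)).obj N) hU
        (θ.inv.app ⊤ (one ⊤))) = fun r : Γ(f.fiber s, U) => θ.inv.app U r := by
      funext r
      rw [← app_mres, mres_one, ← Scheme.Modules.Hom.app_smul]
      exact congrArg _ (mul_one r)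
    rw [h2]
    exact (ConcreteCategory.isIso_iff_bijective (θ.inv.app U)).1 inferInstance
  rw [← ht] at hgen
  obtain ⟨V', h, hs', hg⟩ := exists_isGen_near f hN hs t hgen
  exact ⟨V', hs', Twist.nonempty_restrict_iso N _ _ hg⟩

/-- Invertible modules isomorphic on a fibre without `H¹` are isomorphic over a neighbourhood. -/
theorem exists_iso_near [IsProper f] [Flat f] [IsLocallyNoetherian S] {L M : X.Modules}
    (hL : PicF.IsInvertible L) (hM : PicF.IsInvertible M) (s : S)
    (h1 : Subsingleton (Coh.HH (f.fiber s) (Coh.structureModule (f.fiber s)) 1))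
    (θ : CohIII.fiberMod f L s ≅ CohIII.fiberMod f M s) :
    ∃ V : S.Opens, s ∈ V ∧ Nonempty (L.restrict (f ⁻¹ᵁ V).ι ≅ M.restrict (f ⁻¹ᵁ V).ι) := by
  obtain ⟨D, hD, ⟨e⟩⟩ := M2.exists_inverse hL
  let ι := f.fiberι s
  let θN : CohIII.fiberMod f (CohB1.tensorMod D M) s ≅ Coh.structureModule (f.fiber s) :=
    M2.pullTensorIso ι D M ≪≫ M2.tensorIso (Iso.refl _) θ.symm ≪≫ (M2.pullTensorIso ι D L).symm ≪≫
      (Scheme.Modules.pullback ι).mapIso (M2.tensorComm D L ≪≫ e) ≪≫ Twist.pullbackUnitIso ι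
  obtain ⟨V, hs, ⟨ε⟩⟩ := exists_trivial_near f (M2.isInvertible_tensor hD hM) s h1 θN
  let j := (f ⁻¹ᵁ V).ι
  refine ⟨V, hs, ⟨(M2.tensorRUnit _).symm ≪≫
    M2.tensorIso (Iso.refl _) (ε.symm ≪≫ M2.restrictTensorIso j D M) ≪≫
    (M2.tensorAssoc _ _ _).symm ≪≫
    M2.tensorIso ((M2.restrictTensorIso j L D).symm ≪≫ (Scheme.Modules.restrictFunctor j).mapIso e ≪≫
      Scheme.Modules.restrictUnitIso j) (Iso.refl _) ≪≫ M2.tensorLUnit _⟩⟩

end Groth.Agent.LiftFib11
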